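import Groth.Agent.Flatn.K654.Geo
import Groth.Agent.Ega1.QCohSpec
import Groth.Agent.PerfA.QCohExt
import Groth.Agent.CohqB.FiniteType2
import Groth.Agent.CohqB.QC6

/-!
# Relative finite presentation in short exact sequences
-/

set_option autoImplicit false
universe u

open CategoryTheory CategoryTheory.Limits AlgebraicGeometry TopologicalSpace Opposite

namespace K654.RelFP

variable {X S : Scheme.{u}}

/-- Sections of a morphism as a linear map. -/
noncomputable def appLin {E F : X.Modules} (v : E ⟶ F) (W : X.Opens) :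
    Γ(E, W) →ₗ[Γ(X, W)] Γ(F, W) where
  toFun := v.app W
  map_add' := map_add _
  map_smul' r e := Scheme.Modules.Hom.app_smul v r e

theorem exact_sections {E : ShortComplex X.Modules} (hE : E.ShortExact)
    (h₁ : Coh.IsQCoh E.X₁) {U : X.Opens} (hU : IsAffineOpen U) :
    Function.Injective (appLin E.f U) ∧ Function.Exact (appLin E.f U) (appLin E.g U) ∧
      Function.Surjective (appLin E.g U) := by
  have := hE.mono_f
  refine ⟨Groth.Agent.Ega1.QCohSpec.app_injective_of_mono E.f U, fun y => ?_,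
    Groth.Agent.PerfA.QCohExt.app_surjective hE h₁ U hU⟩
  constructor
  · intro hy
    exact Groth.Agent.Ega1.QCohSpec.exact_app hE.exact U y hy
  · rintro ⟨x, rfl⟩
    have h : (E.f ≫ E.g).app U x = 0 := by
      rw [E.zero]
      rfl
    exact h

theorem isRelFP_middle (f : X ⟶ S) [LocallyOfFiniteType f] (E : ShortComplex X.Modules)
    (hE : E.ShortExact) (q₁ : Coh.IsQCoh E.X₁) (q₂ : Coh.IsQCoh E.X₂) (q₃ : Coh.IsQCoh E.X₃)
    (h₁ : Flatn.IsRelFP f E.X₁) (h₃ : Flatn.IsRelFP f E.X₃) : Flatn.IsRelFP f E.X₂ := by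
  rw [isRelFP_iff f _ q₁] at h₁
  rw [isRelFP_iff f _ q₃] at h₃
  rw [isRelFP_iff f _ q₂]
  intro U V h hU hV
  obtain ⟨e1, e2, e3⟩ := exact_sections hE q₁ hU
  exact rfp_middle _ _ _ e1 e2 e3 (h₁ U V h hU hV) (h₃ U V h hU hV)

theorem isRelFP_right (f : X ⟶ S) [LocallyOfFiniteType f] (E : ShortComplex X.Modules)
    (hE : E.ShortExact) (q₁ : Coh.IsQCoh E.X₁) (q₂ : Coh.IsQCoh E.X₂) (q₃ : Coh.IsQCoh E.X₃)
    (h₁ : CohB1.IsFT E.X₁) (h₂ : Flatn.IsRelFP f E.X₂) : Flatn.IsRelFP f E.X₃ := by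
  rw [isRelFP_iff f _ q₂] at h₂
  rw [isRelFP_iff f _ q₃]
  intro U V h hU hV
  obtain ⟨e1, e2, e3⟩ := exact_sections hE q₁ hU
  have := Groth.Agent.CohqB.FiniteType2.finite_sections_of_isFT E.X₁ h₁ hU
  exact rfp_right _ _ _ e2 e3 (h₂ U V h hU hV)

theorem isRelFP_retract (f : X ⟶ S) [LocallyOfFiniteType f] {F G : X.Modules} (i : F ⟶ G)
    (r : G ⟶ F) (hir : i ≫ r = 𝟙 F) (qF : Coh.IsQCoh F) (qG : Coh.IsQCoh G)
    (h : Flatn.IsRelFP f G) : Flatn.IsRelFP f F := by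
  rw [isRelFP_iff f _ qG] at h
  rw [isRelFP_iff f _ qF]
  intro U V hUV hU hV
  refine rfp_of_retract _ (appLin i U) (appLin r U) ?_ (h U V hUV hU hV)
  refine LinearMap.ext fun x => ?_
  have h1 : (i ≫ r).app U x = x := by rw [hir]; rfl
  exact h1

theorem isRelFP_of_biprod (f : X ⟶ S) [LocallyOfFiniteType f] (F F' : X.Modules)
    (qF : Coh.IsQCoh F) (qF' : Coh.IsQCoh F') (h : Flatn.IsRelFP f (F ⊞ F')) :
    Flatn.IsRelFP f F ∧ Flatn.IsRelFP f F' := by
  have q : Coh.IsQCoh (F ⊞ F') := Groth.Agent.CohqB.QC6.isQCoh_biprod qF qF'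
  exact ⟨isRelFP_retract f biprod.inl biprod.fst biprod.inl_fst qF q h,
    isRelFP_retract f biprod.inr biprod.snd biprod.inr_snd qF' q h⟩

end K654.RelFP
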