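import Mathlib.RingTheory.FinitePresentation
import Mathlib.Algebra.Module.FinitePresentation
import Mathlib.RingTheory.TensorProduct.MvPolynomial
import Mathlib.RingTheory.IsTensorProduct
import Mathlib.RingTheory.RingHom.FinitePresentation
import Mathlib.RingTheory.RingHom.Finite
import Mathlib.RingTheory.LocalProperties.FinitePresentation

/-!
# Finite presentation of a module through a ring homomorphism

`FPV φ N`: the `S`-module `N` is finitely presented over `P` via `φ : P →+* S`.
Independence of the choice of a finitely presented algebra surjecting onto `S`.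
-/

set_option autoImplicit false

open scoped TensorProduct

namespace K654.RelFP

/-- The `S`-module `N` is finitely presented as a `P`-module via `φ : P →+* S`. -/
def FPV {P S : Type*} [CommRing P] [CommRing S] (φ : P →+* S) (N : Type*) [AddCommGroup N]
    [Module S N] : Prop :=
  letI := Module.compHom N φ
  Module.FinitePresentation P N

variable {P Q S : Type*} [CommRing P] [CommRing Q] [CommRing S] {N : Type*} [AddCommGroup N]
  [Module S N]

theorem fpv_iff' (φ : P →+* S) [Module P N] (h : ∀ (p : P) (n : N), p • n = φ p • n) :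
    FPV φ N ↔ Module.FinitePresentation P N := by
  unfold FPV
  have h : (Module.compHom N φ : Module P N) = ‹Module P N› := by
    refine Module.ext' _ _ fun r x => ?_
    exact (h r x).symm
  rw [h]

theorem fpv_iff [Algebra P S] [Module P N] [IsScalarTower P S N] :
    FPV (algebraMap P S) N ↔ Module.FinitePresentation P N :=
  fpv_iff' _ fun _ _ => (algebraMap_smul S _ _).symm

/-- For a surjection `P → Q` and a `Q`-module `N`, finite presentation passes from `P` to `Q`. -/
theorem finitePresentation_of_surjective {P Q N : Type*} [CommRing P] [CommRing Q] [AddCommGroup N]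
    [Algebra P Q] [Module P N] [Module Q N] [IsScalarTower P Q N]
    (hs : Function.Surjective (algebraMap P Q)) [Module.FinitePresentation P N] :
    Module.FinitePresentation Q N := by
  let l : Q ⊗[P] N →ₗ[Q] N := LinearMap.liftBaseChange Q (LinearMap.id : N →ₗ[P] N)
  have h1 : ∀ t : Q ⊗[P] N, ∃ n : N, t = 1 ⊗ₜ n := by
    intro t
    induction t using TensorProduct.induction_on with
    | zero => exact ⟨0, by simp⟩
    | tmul a b =>
      obtain ⟨p, rfl⟩ := hs a
      refine ⟨p • b, ?_⟩
      rw [← TensorProduct.smul_tmul, Algebra.smul_def, mul_one]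
    | add a b ha hb =>
      obtain ⟨x, rfl⟩ := ha
      obtain ⟨y, rfl⟩ := hb
      exact ⟨x + y, by rw [TensorProduct.tmul_add]⟩
  have h2 : ∀ n, l (1 ⊗ₜ n) = n := fun n => by simp [l]
  have hbij : Function.Bijective l := by
    refine ⟨?_, fun n => ⟨_, h2 n⟩⟩
    rw [injective_iff_map_eq_zero]
    intro t ht
    obtain ⟨n, rfl⟩ := h1 t
    rw [h2] at ht
    rw [ht, TensorProduct.tmul_zero]
  exact Module.FinitePresentation.of_equiv (LinearEquiv.ofBijective l hbij)

/-- Finite presentation passes along surjections to quotients. -/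
theorem FPV.of_comp_surjective (ψ : P →+* Q) (χ : Q →+* S) (hψ : Function.Surjective ψ)
    (h : FPV (χ.comp ψ) N) : FPV χ N := by
  let : Algebra P Q := ψ.toAlgebra
  let : Module Q N := Module.compHom N χ
  let : Module P N := Module.compHom N (χ.comp ψ)
  have : IsScalarTower P Q N := ⟨fun a b c => by
    rw [Algebra.smul_def, mul_smul]; rfl⟩
  have hP : Module.FinitePresentation P N := h
  exact finitePresentation_of_surjective (P := P) (Q := Q) (N := N) hψ

/-- For a module-finite ring map `P → Q`, finite presentation passes from `P` to `Q`. -/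
theorem finitePresentation_of_finite {P Q N : Type*} [CommRing P] [CommRing Q] [AddCommGroup N]
    [Algebra P Q] [Module P N] [Module Q N] [IsScalarTower P Q N]
    [Module.Finite P Q] [Module.FinitePresentation P N] :
    Module.FinitePresentation Q N := by
  have : Module.Finite Q N := Module.Finite.of_restrictScalars_finite P Q N
  obtain ⟨n, f, hf⟩ := Module.Finite.exists_fin' Q N
  refine Module.finitePresentation_of_surjective f hf ?_
  have h1 := Module.FinitePresentation.fg_ker (f.restrictScalars P) hf
  exact Submodule.FG.of_restrictScalars (R := P) h1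

theorem FPV.of_comp_finite (ψ : P →+* Q) (χ : Q →+* S) (hψ : ψ.Finite)
    (h : FPV (χ.comp ψ) N) : FPV χ N := by
  let : Algebra P Q := ψ.toAlgebra
  let : Module Q N := Module.compHom N χ
  let : Module P N := Module.compHom N (χ.comp ψ)
  have : IsScalarTower P Q N := ⟨fun a b c => by
    rw [Algebra.smul_def, mul_smul]; rfl⟩
  have hP : Module.FinitePresentation P N := h
  have : Module.Finite P Q := hψ
  exact finitePresentation_of_finite (P := P) (Q := Q) (N := N)

theorem FPV.comp (ψ : P →+* Q) (χ : Q →+* S)
    (hψ : letI := ψ.toAlgebra; Module.FinitePresentation P Q)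
    (h : FPV χ N) : FPV (χ.comp ψ) N := by
  let : Algebra P Q := ψ.toAlgebra
  let : Module Q N := Module.compHom N χ
  let : Module P N := Module.compHom N (χ.comp ψ)
  have : IsScalarTower P Q N := ⟨fun a b c => by
    rw [Algebra.smul_def, mul_smul]; rfl⟩
  have hQ : Module.FinitePresentation Q N := h
  have : Module.FinitePresentation P Q := hψ
  exact Module.FinitePresentation.trans P N Q

theorem FPV.comp_algebraMap [Algebra P Q] [Module.FinitePresentation P Q] (χ : Q →+* S)
    (h : FPV χ N) : FPV (χ.comp (algebraMap P Q)) N := by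
  let : Module Q N := Module.compHom N χ
  let : Module P N := Module.compHom N (χ.comp (algebraMap P Q))
  have : IsScalarTower P Q N := ⟨fun a b c => by
    rw [Algebra.smul_def, mul_smul]; rfl⟩
  have hQ : Module.FinitePresentation Q N := h
  exact Module.FinitePresentation.trans P N Q

theorem FPV.comp_surjective (ψ : P →+* Q) (χ : Q →+* S) (hs : Function.Surjective ψ)
    (hψ : (RingHom.ker ψ).FG) (h : FPV χ N) : FPV (χ.comp ψ) N := by
  refine h.comp ψ χ ?_
  let : Algebra P Q := ψ.toAlgebra
  exact Module.finitePresentation_of_surjective (Algebra.linearMap P Q) hs hψ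

/-- The key comparison: if `Q` is a finitely presented `P`-algebra over `S` and `P → S` is already
surjective, finite presentation over `P` and over `Q` agree. -/
theorem fpv_comp_iff (ψ : P →+* Q) (χ : Q →+* S) (hψ : ψ.FinitePresentation)
    (hs : Function.Surjective (χ.comp ψ)) : FPV (χ.comp ψ) N ↔ FPV χ N := by
  let : Algebra P Q := ψ.toAlgebra
  have hfp : Algebra.FinitePresentation P Q := hψ
  obtain ⟨s, hgen⟩ := (inferInstance : Algebra.FiniteType P Q).out
  choose a ha using hs
  let J : Ideal Q := Ideal.span ((fun x => x - ψ (a (χ x))) '' (s : Set Q))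
  have hJ : J.FG := Submodule.fg_span (s.finite_toSet.image _)
  have hJχ : ∀ x ∈ J, χ x = 0 := by
    intro x hx
    have : J ≤ RingHom.ker χ := by
      refine Ideal.span_le.2 ?_
      rintro _ ⟨x, hx, rfl⟩
      change χ _ = 0
      have := ha (χ x)
      rw [RingHom.comp_apply] at this
      rw [map_sub, this, sub_self]
    exact this hx
  let π : Q →+* Q ⧸ J := Ideal.Quotient.mk J
  let χ' : Q ⧸ J →+* S := Ideal.Quotient.lift J χ hJχ
  have hχ' : χ'.comp π = χ := Ideal.Quotient.lift_comp_mk _ _ _
  have hπ : Function.Surjective π := Ideal.Quotient.mk_surjective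
  have hker : RingHom.ker π = J := Ideal.mk_ker
  have hψ's : Function.Surjective (π.comp ψ) := by
    intro y
    obtain ⟨q, rfl⟩ := hπ y
    have hq : q ∈ Algebra.adjoin P (s : Set Q) := by rw [hgen]; trivial
    induction hq using Algebra.adjoin_induction with
    | mem x hx =>
      refine ⟨a (χ x), ?_⟩
      rw [RingHom.comp_apply, eq_comm, ← sub_eq_zero, ← map_sub]
      exact Ideal.Quotient.eq_zero_iff_mem.2 (Ideal.subset_span ⟨x, hx, rfl⟩)
    | algebraMap r => exact ⟨r, rfl⟩
    | add x y _ _ hx hy =>
      obtain ⟨u, hu⟩ := hx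
      obtain ⟨v, hv⟩ := hy
      exact ⟨u + v, by rw [map_add, hu, hv, map_add]⟩
    | mul x y _ _ hx hy =>
      obtain ⟨u, hu⟩ := hx
      obtain ⟨v, hv⟩ := hy
      exact ⟨u * v, by rw [map_mul, hu, hv, map_mul]⟩
  have hψ'ker : (RingHom.ker (π.comp ψ)).FG := by
    have h1 : Algebra.FinitePresentation P (Q ⧸ J) := Algebra.FinitePresentation.quotient hJ
    exact Algebra.FinitePresentation.ker_fG_of_surjective (Algebra.ofId P (Q ⧸ J)) hψ's
  constructor
  · intro h
    have h1 : FPV (χ'.comp (π.comp ψ)) N := by rwa [← RingHom.comp_assoc, hχ']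
    have h2 := h1.of_comp_surjective _ _ hψ's
    rw [← hχ']
    exact h2.comp_surjective π χ' hπ (by rw [hker]; exact hJ)
  · intro h
    rw [← hχ'] at h
    have h2 := h.of_comp_surjective _ _ hπ
    have h3 := h2.comp_surjective (π.comp ψ) χ' hψ's hψ'ker
    rwa [← RingHom.comp_assoc, hχ'] at h3

/-- Independence of the finitely presented algebra surjecting onto `S`. -/
theorem fpv_iff_fpv {R P P' : Type*} [CommRing R] [CommRing P] [CommRing P'] (ρ : R →+* P)
    (ρ' : R →+* P') (hρ : ρ.FinitePresentation) (hρ' : ρ'.FinitePresentation) (φ : P →+* S)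
    (φ' : P' →+* S) (hφ : Function.Surjective φ) (hφ' : Function.Surjective φ')
    (h : φ.comp ρ = φ'.comp ρ') : FPV φ N ↔ FPV φ' N := by
  let : Algebra R P := ρ.toAlgebra
  let : Algebra R P' := ρ'.toAlgebra
  let : Algebra R S := (φ.comp ρ).toAlgebra
  let f : P →ₐ[R] S := { φ with commutes' := fun r => rfl }
  let f' : P' →ₐ[R] S := { φ' with commutes' := fun r => (RingHom.congr_fun h r).symm }
  let χ : P ⊗[R] P' →ₐ[R] S := Algebra.TensorProduct.productMap f f'
  let ψ : P →+* P ⊗[R] P' := Algebra.TensorProduct.includeLeftRingHom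
  let ψ' : P' →+* P ⊗[R] P' := (Algebra.TensorProduct.includeRight : P' →ₐ[R] P ⊗[R] P').toRingHom
  have hfp : Algebra.FinitePresentation R P := hρ
  have hfp' : Algebra.FinitePresentation R P' := hρ'
  have hψ : ψ.FinitePresentation := by
    have : Algebra.FinitePresentation P (P ⊗[R] P') := inferInstance
    exact RingHom.finitePresentation_algebraMap.2 this
  have hψ' : ψ'.FinitePresentation := by
    have h1 : Algebra.FinitePresentation P' (P' ⊗[R] P) := inferInstance
    have h2 : (algebraMap P' (P' ⊗[R] P)).FinitePresentation :=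
      RingHom.finitePresentation_algebraMap.2 h1
    have h3 := RingHom.FinitePresentation.comp (RingHom.FinitePresentation.of_bijective
      (f := (Algebra.TensorProduct.comm R P' P).toRingEquiv.toRingHom)
      (Algebra.TensorProduct.comm R P' P).bijective) h2
    convert h3 using 1
    ext x
    simp [ψ']
  have e1 : χ.toRingHom.comp ψ = φ := by
    ext x
    simp [χ, ψ, f]
  have e2 : χ.toRingHom.comp ψ' = φ' := by
    ext x
    simp [χ, ψ', f']
  rw [← e1, fpv_comp_iff ψ χ.toRingHom hψ (by rw [e1]; exact hφ), ← e2,
    fpv_comp_iff ψ' χ.toRingHom hψ' (by rw [e2]; exact hφ')]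

end K654.RelFP
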