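import Groth.Agent.Flatn.K654.RFP

/-!
# Relative finite presentation in exact sequences
-/

set_option autoImplicit false
universe u

namespace K654.RelFP

variable {R S : Type u} [CommRing R] [CommRing S] (σ : R →+* S) {N' N N'' : Type u}
  [AddCommGroup N'] [Module S N'] [AddCommGroup N] [Module S N] [AddCommGroup N''] [Module S N'']

theorem rfp_middle (i : N' →ₗ[S] N) (p : N →ₗ[S] N'') (hi : Function.Injective i)
    (hex : Function.Exact i p) (hp : Function.Surjective p) (h' : RFP σ N') (h'' : RFP σ N'') :
    RFP σ N := by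
  obtain ⟨n, φ, h1, h2, h3⟩ := (rfp_def σ N').1 h'
  rw [rfp_iff σ MvPolynomial.C (C_finitePresentation R n) φ h1 h2] at h'' ⊢
  let : Algebra (MvPolynomial (Fin n) R) S := φ.toAlgebra
  let : Module (MvPolynomial (Fin n) R) N' := Module.compHom N' φ
  let : Module (MvPolynomial (Fin n) R) N := Module.compHom N φ
  let : Module (MvPolynomial (Fin n) R) N'' := Module.compHom N'' φ
  have t1 : IsScalarTower (MvPolynomial (Fin n) R) S N' := ⟨fun a b c => by
    rw [Algebra.smul_def, mul_smul]; rfl⟩
  have t2 : IsScalarTower (MvPolynomial (Fin n) R) S N := ⟨fun a b c => by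
    rw [Algebra.smul_def, mul_smul]; rfl⟩
  have t3 : IsScalarTower (MvPolynomial (Fin n) R) S N'' := ⟨fun a b c => by
    rw [Algebra.smul_def, mul_smul]; rfl⟩
  have f1 : Module.FinitePresentation (MvPolynomial (Fin n) R) N' := h3
  have f2 : Module.FinitePresentation (MvPolynomial (Fin n) R) N'' := h''
  let i' := i.restrictScalars (MvPolynomial (Fin n) R)
  let p' := p.restrictScalars (MvPolynomial (Fin n) R)
  have hker : Module.FinitePresentation (MvPolynomial (Fin n) R) (LinearMap.ker p') := by
    refine Module.FinitePresentation.of_equiv ((LinearEquiv.ofInjective i' hi).trans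
      (LinearEquiv.ofEq _ _ ?_))
    ext x
    rw [LinearMap.mem_range, LinearMap.mem_ker]
    exact (hex x).symm
  exact Module.finitePresentation_of_ker p' hp

theorem rfp_right (i : N' →ₗ[S] N) (p : N →ₗ[S] N'')
    (hex : Function.Exact i p) (hp : Function.Surjective p) [Module.Finite S N'] (h : RFP σ N) :
    RFP σ N'' := by
  obtain ⟨n, φ, h1, h2, h3⟩ := (rfp_def σ N).1 h
  rw [rfp_iff σ MvPolynomial.C (C_finitePresentation R n) φ h1 h2]
  let : Algebra (MvPolynomial (Fin n) R) S := φ.toAlgebra
  let : Module (MvPolynomial (Fin n) R) N' := Module.compHom N' φ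
  let : Module (MvPolynomial (Fin n) R) N := Module.compHom N φ
  let : Module (MvPolynomial (Fin n) R) N'' := Module.compHom N'' φ
  have t1 : IsScalarTower (MvPolynomial (Fin n) R) S N' := ⟨fun a b c => by
    rw [Algebra.smul_def, mul_smul]; rfl⟩
  have t2 : IsScalarTower (MvPolynomial (Fin n) R) S N := ⟨fun a b c => by
    rw [Algebra.smul_def, mul_smul]; rfl⟩
  have t3 : IsScalarTower (MvPolynomial (Fin n) R) S N'' := ⟨fun a b c => by
    rw [Algebra.smul_def, mul_smul]; rfl⟩
  have f1 : Module.FinitePresentation (MvPolynomial (Fin n) R) N := h3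
  have f2 : (LinearMap.range i).FG := Module.Finite.iff_fg.1 inferInstance
  have f3 : (LinearMap.ker p).FG := by
    have : LinearMap.ker p = LinearMap.range i := by
      ext x
      rw [LinearMap.mem_range, LinearMap.mem_ker]
      exact hex x
    rwa [this]
  exact Module.finitePresentation_of_surjective (p.restrictScalars (MvPolynomial (Fin n) R)) hp
    (Submodule.FG.restrictScalars_of_surjective f3 h1)

theorem rfp_of_retract (i : N' →ₗ[S] N) (r : N →ₗ[S] N') (hri : r ∘ₗ i = LinearMap.id)
    (h : RFP σ N) : RFP σ N' := by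
  obtain ⟨n, φ, h1, h2, h3⟩ := (rfp_def σ N).1 h
  have hfin : Module.Finite S N := by
    let : Algebra (MvPolynomial (Fin n) R) S := φ.toAlgebra
    let : Module (MvPolynomial (Fin n) R) N := Module.compHom N φ
    have t2 : IsScalarTower (MvPolynomial (Fin n) R) S N := ⟨fun a b c => by
      rw [Algebra.smul_def, mul_smul]; rfl⟩
    have f1 : Module.FinitePresentation (MvPolynomial (Fin n) R) N := h3
    exact Module.Finite.of_restrictScalars_finite (MvPolynomial (Fin n) R) S N
  refine rfp_right σ (LinearMap.id - i ∘ₗ r) r ?_ ?_ h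
  · intro x
    constructor
    · intro hx
      exact ⟨x, by simp [hx]⟩
    · rintro ⟨y, rfl⟩
      have := LinearMap.congr_fun hri (r y)
      simp only [LinearMap.coe_comp, Function.comp_apply, LinearMap.id_coe, id_eq] at this
      simp [this]
  · intro x
    exact ⟨i x, LinearMap.congr_fun hri x⟩

theorem rfp_equiv (e : N ≃ₗ[S] N') (h : RFP σ N) : RFP σ N' :=
  rfp_of_retract σ e.symm.toLinearMap e.toLinearMap (by ext; simp) h

end K654.RelFP
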