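import Groth.Agent.Flatn.K654.RFPPull
import Groth.Agent.Flatn.K654.RFPExact
import Groth.Prelude.Def_Flatn
import Groth.Agent.Fdesc.QCohStalk

/-!
# Relative finite presentation of quasi-coherent modules can be tested on all affine opens
-/

set_option autoImplicit false
universe u

open CategoryTheory CategoryTheory.Limits AlgebraicGeometry TopologicalSpace Opposite

namespace K654.RelFP

variable {X S : Scheme.{u}}

/-- Relative finite presentation of the sections over a pair of opens. -/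
def On (f : X ⟶ S) (F : X.Modules) (U : X.Opens) (V : S.Opens) (h : U ≤ f ⁻¹ᵁ V) : Prop :=
  RFP (f.appLE V U h).hom Γ(F, U)

theorem relFPOn_iff (f : X ⟶ S) (F : X.Modules) (U : X.affineOpens) (V : S.affineOpens)
    (h : (U : X.Opens) ≤ f ⁻¹ᵁ (V : S.Opens)) :
    Flatn.RelFPOn f F U V h ↔ On f F U V h := Iff.rfl

theorem on_congr (f : X ⟶ S) (F : X.Modules) {U U' : X.Opens} {V V' : S.Opens} (hU : U = U')
    (hV : V = V') (h : U ≤ f ⁻¹ᵁ V) (h' : U' ≤ f ⁻¹ᵁ V') : On f F U V h ↔ On f F U' V' h' := by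
  subst hU hV
  exact Iff.rfl

theorem on_basicOpen_left (f : X ⟶ S) (F : X.Modules) (hF : Coh.IsQCoh F) {U : X.Opens}
    (hU : IsAffineOpen U) {V : S.Opens} (h : U ≤ f ⁻¹ᵁ V) (s : Γ(X, U)) (H : On f F U V h) :
    On f F (X.basicOpen s) V ((X.basicOpen_le s).trans h) := by
  have hle := X.basicOpen_le s
  let : Algebra Γ(X, U) Γ(X, X.basicOpen s) := (X.presheaf.map (homOfLE hle).op).hom.toAlgebra
  let := Groth.Agent.Fdesc.QCohStalk.resModule F hle
  have : IsScalarTower Γ(X, U) Γ(X, X.basicOpen s) Γ(F, X.basicOpen s) :=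
    ⟨fun a b c => by rw [Algebra.smul_def, mul_smul]; rfl⟩
  have hloc : IsLocalization.Away s Γ(X, X.basicOpen s) := hU.isLocalization_basicOpen s
  have h3 := Groth.Agent.Fdesc.QCohStalk.isLocalizedModule_res F hU hF s
  have h5 := (isLocalizedModule_iff_isBaseChange (.powers s) Γ(X, X.basicOpen s) _).1 h3
  have : Algebra.FinitePresentation Γ(X, U) Γ(X, X.basicOpen s) :=
    IsLocalization.Away.finitePresentation s
  have key := rfp_pullback (f.appLE V U h).hom _ h5 H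
  have e : (f.appLE V (X.basicOpen s) (hle.trans h)).hom =
      (algebraMap Γ(X, U) Γ(X, X.basicOpen s)).comp (f.appLE V U h).hom := by
    change _ = (f.appLE V U h ≫ X.presheaf.map (homOfLE hle).op).hom
    rw [Scheme.Hom.appLE_map]
  unfold On
  rw [e]
  exact key

theorem on_basicOpen_right (f : X ⟶ S) (F : X.Modules) {U : X.Opens}
    {V : S.Opens} (hV : IsAffineOpen V) (a : Γ(S, V)) (h : U ≤ f ⁻¹ᵁ V)
    (h' : U ≤ f ⁻¹ᵁ S.basicOpen a) : On f F U V h ↔ On f F U (S.basicOpen a) h' := by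
  have hle := S.basicOpen_le a
  let : Algebra Γ(S, V) Γ(S, S.basicOpen a) := (S.presheaf.map (homOfLE hle).op).hom.toAlgebra
  have hloc : IsLocalization.Away a Γ(S, S.basicOpen a) := hV.isLocalization_basicOpen a
  have hfp : Algebra.FinitePresentation Γ(S, V) Γ(S, S.basicOpen a) :=
    IsLocalization.Away.finitePresentation a
  have e : (f.appLE V U h).hom = (f.appLE (S.basicOpen a) U h').hom.comp
      (algebraMap Γ(S, V) Γ(S, S.basicOpen a)) := by
    change _ = (S.presheaf.map (homOfLE hle).op ≫ f.appLE (S.basicOpen a) U h').hom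
    rw [Scheme.Hom.map_appLE]
  unfold On
  rw [e]
  exact rfp_comp_iff _ (RingHom.finitePresentation_algebraMap.2 hfp) _ _

theorem on_of_local (f : X ⟶ S) [LocallyOfFiniteType f] (F : X.Modules) (hF : Coh.IsQCoh F)
    {U : X.Opens} (hU : IsAffineOpen U) {V : S.Opens} (hV : IsAffineOpen V) (h : U ≤ f ⁻¹ᵁ V)
    (H : ∀ x ∈ U, ∃ s : Γ(X, U), x ∈ X.basicOpen s ∧
      On f F (X.basicOpen s) V ((X.basicOpen_le s).trans h)) : On f F U V h := by
  have hft : (f.appLE V U h).hom.FiniteType :=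
    HasRingHomProperty.appLE (P := @LocallyOfFiniteType) f inferInstance ⟨V, hV⟩ ⟨U, hU⟩ h
  let T : Set Γ(X, U) := {s | On f F (X.basicOpen s) V ((X.basicOpen_le s).trans h)}
  have hT : Ideal.span T = ⊤ := by
    rw [← hU.self_le_iSup_basicOpen_iff]
    intro x hx
    obtain ⟨s, hxs, hs⟩ := H x hx
    rw [Opens.mem_iSup]
    exact ⟨⟨s, hs⟩, hxs⟩
  refine rfp_of_span _ hft T hT fun s hs => ?_
  have hle := X.basicOpen_le s
  let : Algebra Γ(X, U) Γ(X, X.basicOpen s) := (X.presheaf.map (homOfLE hle).op).hom.toAlgebra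
  let := Groth.Agent.Fdesc.QCohStalk.resModule F hle
  have : IsScalarTower Γ(X, U) Γ(X, X.basicOpen s) Γ(F, X.basicOpen s) :=
    ⟨fun a b c => by rw [Algebra.smul_def, mul_smul]; rfl⟩
  have hloc : IsLocalization.Away s Γ(X, X.basicOpen s) := hU.isLocalization_basicOpen s
  refine ⟨Γ(X, X.basicOpen s), inferInstance, inferInstance, hloc, Γ(F, X.basicOpen s),
    inferInstance, inferInstance, inferInstance, inferInstance, _,
    Groth.Agent.Fdesc.QCohStalk.isLocalizedModule_res F hU hF s, ?_⟩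
  have e : (f.appLE V (X.basicOpen s) (hle.trans h)).hom =
      (algebraMap Γ(X, U) Γ(X, X.basicOpen s)).comp (f.appLE V U h).hom := by
    change _ = (f.appLE V U h ≫ X.presheaf.map (homOfLE hle).op).hom
    rw [Scheme.Hom.appLE_map]
  rw [← e]
  exact hs

/-- If relative finite presentation holds on some pair of affine opens around each point, it holds
for all pairs. -/
theorem on_of_cover (f : X ⟶ S) [LocallyOfFiniteType f] (F : X.Modules) (hF : Coh.IsQCoh F)
    (H : ∀ x : X, ∃ (U : X.Opens) (V : S.Opens) (h : U ≤ f ⁻¹ᵁ V), IsAffineOpen U ∧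
      IsAffineOpen V ∧ x ∈ U ∧ On f F U V h)
    {U : X.Opens} (hU : IsAffineOpen U) {V : S.Opens} (hV : IsAffineOpen V) (h : U ≤ f ⁻¹ᵁ V) :
    On f F U V h := by
  refine on_of_local f F hF hU hV h fun x hx => ?_
  obtain ⟨U₁, V₁, h₁, hU₁, hV₁, hx₁, H₁⟩ := H x
  obtain ⟨a, b, hab, hfa⟩ := exists_basicOpen_le_affine_inter hV hV₁ (f x) ⟨h hx, h₁ hx₁⟩
  let c := f.appLE V₁ U₁ h₁ b
  have hc : X.basicOpen c = U₁ ⊓ f ⁻¹ᵁ S.basicOpen b := by
    rw [Scheme.basicOpen_appLE]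
  have hxc : x ∈ X.basicOpen c := by
    rw [hc]
    refine ⟨hx₁, ?_⟩
    rw [← hab]
    exact hfa
  have hU₂ : IsAffineOpen (X.basicOpen c) := hU₁.basicOpen c
  have h₂ : X.basicOpen c ≤ f ⁻¹ᵁ S.basicOpen b := by
    rw [hc]; exact inf_le_right
  have H₂ : On f F (X.basicOpen c) (S.basicOpen b) h₂ :=
    (on_basicOpen_right f F hV₁ b ((X.basicOpen_le c).trans h₁) h₂).1
      (on_basicOpen_left f F hF hU₁ h₁ c H₁)
  obtain ⟨s, t, hst, hxs⟩ := exists_basicOpen_le_affine_inter hU hU₂ x ⟨hx, hxc⟩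
  refine ⟨s, hxs, ?_⟩
  have H₃ := on_basicOpen_left f F hF hU₂ h₂ t H₂
  have h₄ : X.basicOpen s ≤ f ⁻¹ᵁ S.basicOpen a := by
    rw [hst, hab]
    exact (X.basicOpen_le t).trans h₂
  rw [on_basicOpen_right f F hV a _ h₄]
  exact (on_congr f F hst hab h₄ _).2 H₃

theorem exists_of_isRelFP (f : X ⟶ S) (F : X.Modules) (H : Flatn.IsRelFP f F) (x : X) :
    ∃ (U : X.Opens) (V : S.Opens) (h : U ≤ f ⁻¹ᵁ V), IsAffineOpen U ∧
      IsAffineOpen V ∧ x ∈ U ∧ On f F U V h := by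
  obtain ⟨𝒱, h1, h2⟩ := H
  have hx : f x ∈ (⨆ V ∈ 𝒱, (V : S.Opens)) := by rw [h1]; trivial
  simp only [Opens.mem_iSup] at hx
  obtain ⟨V, hV, hx⟩ := hx
  obtain ⟨𝒰, h3, h4⟩ := h2 V hV
  have hx' : x ∈ (⨆ U ∈ 𝒰, (U : X.Opens)) := by rw [h3]; exact hx
  simp only [Opens.mem_iSup] at hx'
  obtain ⟨U, hU, hxU⟩ := hx'
  have hle : (U : X.Opens) ≤ f ⁻¹ᵁ (V : S.Opens) := by
    rw [← h3]
    exact le_iSup₂_of_le U hU le_rfl
  exact ⟨U, V, hle, U.2, V.2, hxU, h4 U hU hle⟩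

theorem isRelFP_of_exists (f : X ⟶ S) [LocallyOfFiniteType f] (F : X.Modules) (hF : Coh.IsQCoh F)
    (H : ∀ x : X, ∃ (U : X.Opens) (V : S.Opens) (h : U ≤ f ⁻¹ᵁ V), IsAffineOpen U ∧
      IsAffineOpen V ∧ x ∈ U ∧ On f F U V h) : Flatn.IsRelFP f F := by
  refine ⟨Set.univ, ?_, fun V _ => ⟨{U | (U : X.Opens) ≤ f ⁻¹ᵁ (V : S.Opens)}, ?_,
    fun U _ h => (relFPOn_iff f F U V h).2 (on_of_cover f F hF H U.2 V.2 h)⟩⟩
  · rw [eq_top_iff]
    intro y _
    obtain ⟨V, hV, hy, -⟩ := exists_isAffineOpen_mem_and_subset (x := y) (U := ⊤) trivial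
    simp only [Opens.mem_iSup]
    exact ⟨⟨V, hV⟩, trivial, hy⟩
  · apply le_antisymm
    · exact iSup₂_le fun U hU => hU
    · intro x hx
      obtain ⟨U, hU, hxU, hle⟩ := exists_isAffineOpen_mem_and_subset (x := x)
        (U := f ⁻¹ᵁ (V : S.Opens)) hx
      simp only [Opens.mem_iSup]
      exact ⟨⟨U, hU⟩, hle, hxU⟩

/-- Relative finite presentation can be tested on all pairs of affine opens. -/
theorem isRelFP_iff (f : X ⟶ S) [LocallyOfFiniteType f] (F : X.Modules) (hF : Coh.IsQCoh F) :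
    Flatn.IsRelFP f F ↔ ∀ (U : X.Opens) (V : S.Opens) (h : U ≤ f ⁻¹ᵁ V), IsAffineOpen U →
      IsAffineOpen V → On f F U V h := by
  constructor
  · intro H U V h hU hV
    exact on_of_cover f F hF (exists_of_isRelFP f F H) hU hV h
  · intro H
    refine isRelFP_of_exists f F hF fun x => ?_
    obtain ⟨V, hV, hy, -⟩ := exists_isAffineOpen_mem_and_subset (x := f x) (U := ⊤) trivial
    obtain ⟨U, hU, hxU, hle⟩ := exists_isAffineOpen_mem_and_subset (x := x) (U := f ⁻¹ᵁ V) hy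
    exact ⟨U, V, hle, hU, hV, hxU, H U V hle hU hV⟩

end K654.RelFP
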