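import Groth.Agent.Flatn.K654.Geo
import Groth.Agent.VarietyB.PullSec
import Mathlib.AlgebraicGeometry.Morphisms.Flat

/-!
# Relative finite presentation: pullback and base change
-/

set_option autoImplicit false
universe u

open CategoryTheory CategoryTheory.Limits AlgebraicGeometry TopologicalSpace Opposite

namespace K654.RelFP

variable {X Y S : Scheme.{u}}

theorem isRelFP_pullback (f : X ⟶ Y) (g : Y ⟶ S) [LocallyOfFinitePresentation f]
    [LocallyOfFiniteType g] (G : Y.Modules) (hG : Coh.IsQCoh G) (H : Flatn.IsRelFP g G) :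
    Flatn.IsRelFP (f ≫ g) ((Scheme.Modules.pullback f).obj G) := by
  rw [isRelFP_iff g _ hG] at H
  have hq : Coh.IsQCoh ((Scheme.Modules.pullback f).obj G) :=
    Groth.Agent.VarietyB.PullSec.isQCoh_pullback f G hG
  refine isRelFP_of_exists (f ≫ g) _ hq fun x => ?_
  obtain ⟨V, hV, hy, -⟩ := exists_isAffineOpen_mem_and_subset (x := (f ≫ g) x) (U := ⊤) trivial
  obtain ⟨W, hW, hxW, hWV⟩ := exists_isAffineOpen_mem_and_subset (x := f x) (U := g ⁻¹ᵁ V) hy
  obtain ⟨U, hU, hxU, hUW⟩ := exists_isAffineOpen_mem_and_subset (x := x) (U := f ⁻¹ᵁ W) hxW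
  have hUW' : U ≤ f ⁻¹ᵁ W := hUW
  have hWV' : W ≤ g ⁻¹ᵁ V := hWV
  have hUV : U ≤ (f ≫ g) ⁻¹ᵁ V := hUW'.trans (Scheme.Hom.preimage_mono f hWV')
  refine ⟨U, V, hUV, hU, hV, hxU, ?_⟩
  let : Algebra Γ(Y, W) Γ(X, U) := (f.appLE W U hUW').hom.toAlgebra
  let := Groth.Agent.VarietyB.PullSec.secModule f G hUW'
  have : IsScalarTower Γ(Y, W) Γ(X, U) Γ((Scheme.Modules.pullback f).obj G, U) :=
    ⟨fun a b c => by rw [Algebra.smul_def, mul_smul]; rfl⟩
  have hfp : (f.appLE W U hUW').hom.FinitePresentation :=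
    HasRingHomProperty.appLE (P := @LocallyOfFinitePresentation) f inferInstance ⟨W, hW⟩ ⟨U, hU⟩ _
  have : Algebra.FinitePresentation Γ(Y, W) Γ(X, U) := hfp
  have hbc : IsBaseChange Γ(X, U) (Groth.Agent.VarietyB.PullSec.secₗ f G hUW') :=
    Groth.Agent.VarietyB.PullSec.isBaseChange_secₗ f G hUW' hG hW hU
  have e : ((f ≫ g).appLE V U hUV).hom =
      (algebraMap Γ(Y, W) Γ(X, U)).comp (g.appLE V W hWV').hom := by
    change _ = (g.appLE V W hWV' ≫ f.appLE W U hUW').hom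
    congr 1
    rw [Scheme.Hom.appLE_comp_appLE]
  unfold On
  rw [e]
  exact rfp_pullback _ _ hbc (H W V hWV' hW hV)

theorem isRelFP_baseChange {X' S' : Scheme.{u}} (f : X ⟶ S) [LocallyOfFiniteType f]
    (F : X.Modules) (hF : Coh.IsQCoh F) (g : S' ⟶ S) (f' : X' ⟶ S') (g' : X' ⟶ X)
    (hc : IsPullback g' f' f g) (H : Flatn.IsRelFP f F) :
    Flatn.IsRelFP f' ((Scheme.Modules.pullback g').obj F) := by
  have hft : LocallyOfFiniteType f' := MorphismProperty.of_isPullback hc inferInstance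
  rw [isRelFP_iff f _ hF] at H
  have hq : Coh.IsQCoh ((Scheme.Modules.pullback g').obj F) :=
    Groth.Agent.VarietyB.PullSec.isQCoh_pullback g' F hF
  refine isRelFP_of_exists f' _ hq fun x => ?_
  obtain ⟨V, hV, hy, -⟩ := exists_isAffineOpen_mem_and_subset (x := f (g' x)) (U := ⊤) trivial
  obtain ⟨U, hU, hxU, hUV⟩ := exists_isAffineOpen_mem_and_subset (x := g' x) (U := f ⁻¹ᵁ V) hy
  have hxg : g (f' x) = f (g' x) := by
    rw [← Scheme.Hom.comp_apply, ← hc.w, Scheme.Hom.comp_apply]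
  obtain ⟨V', hV', hxV', hVV'⟩ := exists_isAffineOpen_mem_and_subset (x := f' x) (U := g ⁻¹ᵁ V)
    (by change g (f' x) ∈ V; rw [hxg]; exact hy)
  have hUV : U ≤ f ⁻¹ᵁ V := hUV
  have hVV' : V' ≤ g ⁻¹ᵁ V := hVV'
  let U' : X'.Opens := g' ⁻¹ᵁ U ⊓ f' ⁻¹ᵁ V'
  have hU' : IsAffineOpen U' := by
    have : IsAffine _ := hV
    have : IsAffine _ := hU
    have : IsAffine _ := hV'
    exact .of_isIso (Scheme.Hom.isPullback_resLE hc hVV' hUV (rfl : U' = _)).isoPullback.hom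
  have hU'U : U' ≤ g' ⁻¹ᵁ U := inf_le_left
  have hU'V' : U' ≤ f' ⁻¹ᵁ V' := inf_le_right
  refine ⟨U', V', hU'V', hU', hV', ⟨hxU, hxV'⟩, ?_⟩
  have hpo : IsPushout (f.appLE V U hUV) (g.appLE V V' hVV') (g'.appLE U U' hU'U)
      (f'.appLE V' U' hU'V') :=
    (isIso_pushoutSection_iff hc hVV' hUV (rfl : U' = _)).1
      (isIso_pushoutSection_of_isAffineOpen hc hVV' hUV rfl hV hV' hU)
  let : Algebra Γ(S, V) Γ(X, U) := (f.appLE V U hUV).hom.toAlgebra
  let : Algebra Γ(S, V) Γ(S', V') := (g.appLE V V' hVV').hom.toAlgebra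
  let : Algebra Γ(X, U) Γ(X', U') := (g'.appLE U U' hU'U).hom.toAlgebra
  let : Algebra Γ(S', V') Γ(X', U') := (f'.appLE V' U' hU'V').hom.toAlgebra
  let : Algebra Γ(S, V) Γ(X', U') := (f.appLE V U hUV ≫ g'.appLE U U' hU'U).hom.toAlgebra
  have t1 : IsScalarTower Γ(S, V) Γ(X, U) Γ(X', U') := IsScalarTower.of_algebraMap_eq fun _ => rfl
  have t2 : IsScalarTower Γ(S, V) Γ(S', V') Γ(X', U') := IsScalarTower.of_algebraMap_eq fun r =>
    congr($(hpo.w).hom r)
  have hpo' : Algebra.IsPushout Γ(S, V) Γ(S', V') Γ(X, U) Γ(X', U') := by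
    rw [Algebra.IsPushout.comm, ← CommRingCat.isPushout_iff_isPushout]
    exact hpo
  let := Groth.Agent.VarietyB.PullSec.secModule g' F hU'U
  have : IsScalarTower Γ(X, U) Γ(X', U') Γ((Scheme.Modules.pullback g').obj F, U') :=
    ⟨fun a b c => by rw [Algebra.smul_def, mul_smul]; rfl⟩
  have hbc : IsBaseChange Γ(X', U') (Groth.Agent.VarietyB.PullSec.secₗ g' F hU'U) :=
    Groth.Agent.VarietyB.PullSec.isBaseChange_secₗ g' F hU'U hF hU hU'
  exact rfp_baseChange (R := Γ(S, V)) (R' := Γ(S', V')) (S := Γ(X, U)) (S' := Γ(X', U')) _ hbc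
    (H U V hUV hU hV)

end K654.RelFP
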