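import Groth.Agent.Flatn.K654.Geo
import Groth.Agent.CohqA.AffPush

/-!
# Relative finite presentation and finite morphisms; composition
-/

set_option autoImplicit false
universe u

open CategoryTheory CategoryTheory.Limits AlgebraicGeometry TopologicalSpace Opposite

namespace K654.RelFP

variable {X Y S : Scheme.{u}}

theorem on_push_iff (π : X ⟶ Y) (g : Y ⟶ S) [IsFinite π] [LocallyOfFiniteType g] (F : X.Modules)
    {U : Y.Opens} (hU : IsAffineOpen U) {V : S.Opens} (hV : IsAffineOpen V) (h : U ≤ g ⁻¹ᵁ V)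
    (h' : π ⁻¹ᵁ U ≤ (π ≫ g) ⁻¹ᵁ V) :
    On (π ≫ g) F (π ⁻¹ᵁ U) V h' ↔ On g ((Coh.push π).obj F) U V h := by
  have hft : (g.appLE V U h).hom.FiniteType :=
    HasRingHomProperty.appLE (P := @LocallyOfFiniteType) g inferInstance ⟨V, hV⟩ ⟨U, hU⟩ h
  have hfin : (π.app U).hom.Finite := IsFinite.finite_app (f := π) U hU
  have e : ((π ≫ g).appLE V (π ⁻¹ᵁ U) h').hom = (π.app U).hom.comp (g.appLE V U h).hom := by
    change _ = (g.appLE V U h ≫ π.app U).hom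
    congr 1
    rw [Scheme.Hom.app_eq_appLE, Scheme.Hom.appLE_comp_appLE]
  unfold On
  rw [e, rfp_finite_iff _ hft _ hfin]
  exact Iff.rfl

theorem isRelFP_push_iff (π : X ⟶ Y) (g : Y ⟶ S) [IsFinite π] [LocallyOfFiniteType g]
    (F : X.Modules) (hF : Coh.IsQCoh F) :
    Flatn.IsRelFP (π ≫ g) F ↔ Flatn.IsRelFP g ((Coh.push π).obj F) := by
  have hq : Coh.IsQCoh ((Coh.push π).obj F) := Groth.Agent.CohqA.AffPush.isQCoh_push π F hF
  constructor
  · intro H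
    rw [isRelFP_iff g _ hq]
    rw [isRelFP_iff (π ≫ g) _ hF] at H
    intro U V h hU hV
    have h' : π ⁻¹ᵁ U ≤ (π ≫ g) ⁻¹ᵁ V := Scheme.Hom.preimage_mono π h
    exact (on_push_iff π g F hU hV h h').1 (H _ _ _ (hU.preimage π) hV)
  · intro H
    rw [isRelFP_iff g _ hq] at H
    refine isRelFP_of_exists (π ≫ g) F hF fun x => ?_
    obtain ⟨V, hV, hy, -⟩ := exists_isAffineOpen_mem_and_subset (x := (π ≫ g) x) (U := ⊤) trivial
    obtain ⟨U, hU, hxU, hle⟩ := exists_isAffineOpen_mem_and_subset (x := π x) (U := g ⁻¹ᵁ V) hy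
    have hle' : U ≤ g ⁻¹ᵁ V := hle
    have h' : π ⁻¹ᵁ U ≤ (π ≫ g) ⁻¹ᵁ V := Scheme.Hom.preimage_mono π hle'
    exact ⟨π ⁻¹ᵁ U, V, h', hU.preimage π, hV, hxU, (on_push_iff π g F hU hV hle' h').2
      (H U V hle' hU hV)⟩

theorem isRelFP_comp (f : X ⟶ Y) (g : Y ⟶ S) [LocallyOfFiniteType f]
    [LocallyOfFinitePresentation g] (F : X.Modules) (hF : Coh.IsQCoh F) (H : Flatn.IsRelFP f F) :
    Flatn.IsRelFP (f ≫ g) F := by
  rw [isRelFP_iff f _ hF] at H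
  refine isRelFP_of_exists (f ≫ g) F hF fun x => ?_
  obtain ⟨V, hV, hy, -⟩ := exists_isAffineOpen_mem_and_subset (x := (f ≫ g) x) (U := ⊤) trivial
  obtain ⟨W, hW, hxW, hWV⟩ := exists_isAffineOpen_mem_and_subset (x := f x) (U := g ⁻¹ᵁ V) hy
  obtain ⟨U, hU, hxU, hUW⟩ := exists_isAffineOpen_mem_and_subset (x := x) (U := f ⁻¹ᵁ W) hxW
  have hUW' : U ≤ f ⁻¹ᵁ W := hUW
  have hWV' : W ≤ g ⁻¹ᵁ V := hWV
  have hUV : U ≤ (f ≫ g) ⁻¹ᵁ V := hUW'.trans (Scheme.Hom.preimage_mono f hWV')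
  refine ⟨U, V, hUV, hU, hV, hxU, ?_⟩
  have hfp : (g.appLE V W hWV').hom.FinitePresentation :=
    HasRingHomProperty.appLE (P := @LocallyOfFinitePresentation) g inferInstance ⟨V, hV⟩ ⟨W, hW⟩ _
  have e : ((f ≫ g).appLE V U hUV).hom = (f.appLE W U hUW').hom.comp (g.appLE V W hWV').hom := by
    change _ = (g.appLE V W hWV' ≫ f.appLE W U hUW').hom
    congr 1
    rw [Scheme.Hom.appLE_comp_appLE]
  unfold On
  rw [e, rfp_comp_iff _ hfp]
  exact H U W hUW' hU hW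

end K654.RelFP
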