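import Groth.Agent.Flatn.K654.FPV
import Groth.Prelude.Def_FlatCA
import Mathlib.RingTheory.Finiteness.ModuleFinitePresentation
import Mathlib.RingTheory.Localization.BaseChange

/-!
# Relative finite presentation of modules: ring level theory
-/

set_option autoImplicit false
universe u

open scoped TensorProduct

namespace K654.RelFP

section Def

variable {R S : Type u} [CommRing R] [CommRing S]

/-- Relative finite presentation through a ring homomorphism. -/
def RFP (σ : R →+* S) (N : Type u) [AddCommGroup N] [Module S N] : Prop :=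
  letI := σ.toAlgebra
  FlatCA.RelFinitePresentation R S N

theorem rfp_def (σ : R →+* S) (N : Type u) [AddCommGroup N] [Module S N] : RFP σ N ↔
    ∃ (n : ℕ) (φ : MvPolynomial (Fin n) R →+* S), Function.Surjective φ ∧
      φ.comp MvPolynomial.C = σ ∧ FPV φ N := by
  let := σ.toAlgebra
  constructor
  · rintro ⟨n, φ, h1, h2⟩
    refine ⟨n, φ.toRingHom, h1, ?_, h2⟩
    ext r
    exact φ.commutes r
  · rintro ⟨n, φ, h1, h2, h3⟩
    refine ⟨n, { φ with commutes' := fun r => RingHom.congr_fun h2 r }, h1, h3⟩

theorem C_finitePresentation (R : Type*) [CommRing R] (n : ℕ) :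
    (MvPolynomial.C : R →+* MvPolynomial (Fin n) R).FinitePresentation := by
  have : Algebra.FinitePresentation R (MvPolynomial (Fin n) R) := inferInstance
  exact RingHom.finitePresentation_algebraMap.2 this

/-- Any finitely presented `R`-algebra surjecting onto `S` computes relative finite presentation. -/
theorem rfp_iff {P : Type*} [CommRing P] (σ : R →+* S) {N : Type u} [AddCommGroup N] [Module S N]
    (ρ : R →+* P) (hρ : ρ.FinitePresentation) (φ : P →+* S) (hφ : Function.Surjective φ)
    (h : φ.comp ρ = σ) : RFP σ N ↔ FPV φ N := by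
  rw [rfp_def]
  constructor
  · rintro ⟨n, φ', h1, h2, h3⟩
    exact (fpv_iff_fpv MvPolynomial.C ρ (C_finitePresentation R n) hρ φ' φ h1 hφ
      (h2.trans h.symm)).1 h3
  · intro h3
    let : Algebra R P := ρ.toAlgebra
    have hfp : Algebra.FinitePresentation R P := hρ
    obtain ⟨n, ψ, hψ, hker⟩ := hfp.out
    refine ⟨n, φ.comp ψ.toRingHom, hφ.comp hψ, ?_, h3.comp_surjective ψ.toRingHom φ hψ hker⟩
    rw [← h, RingHom.comp_assoc]
    congr 1
    ext r
    exact ψ.commutes r

theorem RFP.finiteType {σ : R →+* S} {N : Type u} [AddCommGroup N] [Module S N] (h : RFP σ N) :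
    σ.FiniteType := by
  obtain ⟨n, φ, h1, h2, -⟩ := (rfp_def σ N).1 h
  rw [← h2]
  exact RingHom.FiniteType.comp_surjective
    (RingHom.FiniteType.of_finitePresentation (C_finitePresentation R n)) h1

theorem exists_surj (σ : R →+* S) (hσ : σ.FiniteType) :
    ∃ (n : ℕ) (φ : MvPolynomial (Fin n) R →+* S), Function.Surjective φ ∧
      φ.comp MvPolynomial.C = σ := by
  let := σ.toAlgebra
  have : Algebra.FiniteType R S := hσ
  obtain ⟨n, f, hf⟩ := Algebra.FiniteType.iff_quotient_mvPolynomial''.1 this
  refine ⟨n, f.toRingHom, hf, ?_⟩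
  ext r
  exact f.commutes r

/-- Changing the base ring along a finitely presented ring map. -/
theorem rfp_comp_iff {R' : Type u} [CommRing R'] (α : R →+* R') (hα : α.FinitePresentation)
    (σ' : R' →+* S) (N : Type u) [AddCommGroup N] [Module S N] :
    RFP (σ'.comp α) N ↔ RFP σ' N := by
  have key : σ'.FiniteType → (RFP (σ'.comp α) N ↔ RFP σ' N) := by
    intro hσ'
    obtain ⟨n, φ, h1, h2⟩ := exists_surj σ' hσ'
    rw [rfp_iff σ' MvPolynomial.C (C_finitePresentation R' n) φ h1 h2,
      rfp_iff (σ'.comp α) (MvPolynomial.C.comp α)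
        (RingHom.FinitePresentation.comp (C_finitePresentation R' n) hα) φ h1
        (by rw [← RingHom.comp_assoc, h2])]
  constructor
  · intro h
    exact (key (RingHom.FiniteType.of_comp_finiteType h.finiteType)).1 h
  · intro h
    exact (key h.finiteType).2 h

/-- Relative finite presentation along finite ring maps. -/
theorem rfp_finite_iff {B : Type u} [CommRing B] (σ : R →+* S) (hσ : σ.FiniteType) (τ : S →+* B)
    (hτ : τ.Finite) (N : Type u) [AddCommGroup N] [Module B N] :
    RFP (τ.comp σ) N ↔ (letI := Module.compHom N τ; RFP σ N) := by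
  let := Module.compHom N τ
  obtain ⟨n, φ, h1, h2⟩ := exists_surj σ hσ
  let : Algebra (MvPolynomial (Fin n) R) B := (τ.comp φ).toAlgebra
  have hfin : Module.Finite (MvPolynomial (Fin n) R) B :=
    RingHom.Finite.comp hτ (RingHom.Finite.of_surjective φ h1)
  obtain ⟨Q, _, _, h3, h4, h5, f, hf⟩ := Module.Finite.exists_free_surjective
    (R := MvPolynomial (Fin n) R) (S := B)
  have hQ : Module.FinitePresentation (MvPolynomial (Fin n) R) Q :=
    Module.FinitePresentation.of_finite_of_finitePresentation ..
  let ρ : MvPolynomial (Fin n) R →+* Q := algebraMap _ _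
  have hfρ : f.toRingHom.comp ρ = τ.comp φ := RingHom.ext fun x => f.commutes x
  have e1 : FPV φ N ↔ FPV (τ.comp φ) N := by
    exact Iff.rfl
  rw [rfp_iff σ MvPolynomial.C (C_finitePresentation R n) φ h1 h2,
    rfp_iff (τ.comp σ) (ρ.comp MvPolynomial.C) (RingHom.FinitePresentation.comp
      (RingHom.finitePresentation_algebraMap.2 h5) (C_finitePresentation R n)) f.toRingHom hf
      (by rw [← RingHom.comp_assoc, hfρ, RingHom.comp_assoc, h2]), e1, ← hfρ]
  constructor
  · intro h
    exact h.comp_algebraMap f.toRingHom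
  · intro h
    exact h.of_comp_finite ρ f.toRingHom (RingHom.finite_algebraMap.2 h3)

end Def

end K654.RelFP
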