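import Groth.Agent.Flatn.K654.RFP
import Mathlib.RingTheory.Finiteness.Bilinear
import Mathlib.LinearAlgebra.TensorProduct.RightExactness

/-!
# Relative finite presentation: base change, pullback along finitely presented maps, locality
-/

set_option autoImplicit false
universe u

open scoped TensorProduct

namespace K654.RelFP

/-- Base change of finite presentation along a pushout square. -/
theorem finitePresentation_of_isPushout {P P' A B : Type*} [CommRing P] [CommRing P'] [CommRing A]
    [CommRing B] [Algebra P P'] [Algebra P A] [Algebra P B] [Algebra P' B] [Algebra A B]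
    [IsScalarTower P P' B] [IsScalarTower P A B] [Algebra.IsPushout P P' A B] {N N' : Type*}
    [AddCommGroup N] [Module A N] [Module P N] [IsScalarTower P A N] [AddCommGroup N'] [Module B N']
    [Module A N'] [IsScalarTower A B N'] [Module P' N'] [IsScalarTower P' B N']
    (g : N →ₗ[A] N') (hg : IsBaseChange B g) [Module.FinitePresentation P N] :
    Module.FinitePresentation P' N' :=
  Module.FinitePresentation.of_equiv
    ((Algebra.IsPushout.cancelBaseChange P P' A B N).symm ≪≫ₗ hg.equiv.restrictScalars P')

/-- The kernel of a base change map along a surjection of rings. -/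
theorem ker_of_isBaseChange {C D : Type*} [CommRing C] [CommRing D] [Algebra C D]
    (hs : Function.Surjective (algebraMap C D)) {N N' : Type*} [AddCommGroup N] [Module C N]
    [AddCommGroup N'] [Module C N'] [Module D N'] [IsScalarTower C D N'] (f : N →ₗ[C] N')
    (hf : IsBaseChange D f) :
    LinearMap.ker f = RingHom.ker (algebraMap C D) • (⊤ : Submodule C N) := by
  let K := RingHom.ker (algebraMap C D)
  let e : (C ⧸ K) ≃ₐ[C] D := Ideal.quotientKerAlgEquivOfSurjective (f := Algebra.ofId C D) hs
  let E : (C ⧸ K) ⊗[C] N ≃ₗ[C] D ⊗[C] N := LinearEquiv.rTensor N e.toLinearEquiv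
  have h1 : ∀ n, E (1 ⊗ₜ n) = 1 ⊗ₜ n := fun n => by
    simp [E]
  have h2 : ∀ n, hf.equiv (1 ⊗ₜ n) = f n := fun n => by
    rw [hf.equiv_tmul, one_smul]
  rw [← LinearMap.ker_tensorProductMk]
  ext n
  rw [LinearMap.mem_ker, LinearMap.mem_ker, TensorProduct.mk_apply, ← h2]
  constructor
  · intro h
    apply E.injective
    apply hf.equiv.injective
    rw [h1, h, map_zero, map_zero]
  · intro h
    have := h1 n
    rw [h, map_zero] at this
    rw [← this, map_zero]

/-- Finite presentation over `E` passes to base changes along surjections with finitely generated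
kernel of an algebra `C` which is a quotient of `E`. -/
theorem finitePresentation_quotient {E C D : Type*} [CommRing E] [CommRing C] [CommRing D]
    [Algebra E C] [Algebra C D] (hE : Function.Surjective (algebraMap E C))
    (hs : Function.Surjective (algebraMap C D)) (hker : (RingHom.ker (algebraMap C D)).FG)
    {N N' : Type*} [AddCommGroup N] [Module C N] [Module E N] [IsScalarTower E C N]
    [AddCommGroup N'] [Module C N'] [Module D N'] [Module E N'] [IsScalarTower C D N']
    [IsScalarTower E C N'] (f : N →ₗ[C] N') (hf : IsBaseChange D f)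
    [Module.FinitePresentation E N] : Module.FinitePresentation E N' := by
  have hfs : Function.Surjective f := by
    intro n'
    induction n' using hf.inductionOn with
    | zero => exact ⟨0, map_zero f⟩
    | tmul m => exact ⟨m, rfl⟩
    | smul b m hm =>
      obtain ⟨c, rfl⟩ := hs b
      obtain ⟨x, hx⟩ := hm
      exact ⟨c • x, by rw [map_smul, hx, algebraMap_smul]⟩
    | add a b ha hb =>
      obtain ⟨x, hx⟩ := ha
      obtain ⟨y, hy⟩ := hb
      exact ⟨x + y, by rw [map_add, hx, hy]⟩
  refine Module.finitePresentation_of_surjective (f.restrictScalars E) hfs ?_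
  have hfin : Module.Finite C N := Module.Finite.of_restrictScalars_finite E C N
  have h1 : (LinearMap.ker f).FG := by
    rw [ker_of_isBaseChange hs f hf, Submodule.smul_eq_map₂]
    exact Submodule.FG.map₂ _ hker hfin.fg_top
  exact Submodule.FG.restrictScalars_of_surjective h1 hE

section Poly

attribute [local instance] MvPolynomial.algebraMvPolynomial

/-- Relative finite presentation is stable under base change of the base ring. -/
theorem rfp_baseChange {R R' S S' : Type u} [CommRing R] [CommRing R'] [CommRing S] [CommRing S']
    [Algebra R R'] [Algebra R S] [Algebra R S'] [Algebra R' S'] [Algebra S S']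
    [IsScalarTower R R' S'] [IsScalarTower R S S'] [Algebra.IsPushout R R' S S'] {N N' : Type u}
    [AddCommGroup N] [Module S N] [AddCommGroup N'] [Module S' N'] [Module S N']
    [IsScalarTower S S' N'] (g : N →ₗ[S] N') (hg : IsBaseChange S' g)
    (h : RFP (algebraMap R S) N) : RFP (algebraMap R' S') N' := by
  obtain ⟨n, φ, h1, h2, h3⟩ := (rfp_def _ N).1 h
  let P := MvPolynomial (Fin n) R
  let P' := MvPolynomial (Fin n) R'
  let φ' : P' →+* S' := MvPolynomial.eval₂Hom (algebraMap R' S')
    (fun i => algebraMap S S' (φ (MvPolynomial.X i)))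
  have hC : ∀ r, φ' (MvPolynomial.C r) = algebraMap R' S' r := fun r =>
    MvPolynomial.eval₂Hom_C _ _ r
  have hX : ∀ i, φ' (MvPolynomial.X i) = algebraMap S S' (φ (MvPolynomial.X i)) := fun i =>
    MvPolynomial.eval₂Hom_X' _ _ i
  let : Algebra P S := φ.toAlgebra
  let : Algebra P' S' := φ'.toAlgebra
  let : Algebra P S' := ((algebraMap S S').comp φ).toAlgebra
  let : Module P N := Module.compHom N φ
  let : Module P' N' := Module.compHom N' φ'
  have t1 : IsScalarTower P S S' := IsScalarTower.of_algebraMap_eq fun _ => rfl
  have t2 : IsScalarTower R P S := IsScalarTower.of_algebraMap_eq fun r =>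
    (RingHom.congr_fun h2 r).symm
  have t3 : IsScalarTower R' P' S' := IsScalarTower.of_algebraMap_eq fun r => by
    exact (hC r).symm
  have t4 : IsScalarTower P P' S' := IsScalarTower.of_algebraMap_eq fun p => by
    change algebraMap S S' (φ p) = φ' (MvPolynomial.map (algebraMap R R') p)
    have e : (algebraMap S S').comp φ = φ'.comp (MvPolynomial.map (algebraMap R R')) := by
      apply MvPolynomial.ringHom_ext
      · intro r
        have e1 : φ (MvPolynomial.C r) = algebraMap R S r := RingHom.congr_fun h2 r
        change algebraMap S S' (φ (MvPolynomial.C r)) =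
          φ' (MvPolynomial.map (algebraMap R R') (MvPolynomial.C r))
        rw [e1, MvPolynomial.map_C, hC, ← IsScalarTower.algebraMap_apply,
          ← IsScalarTower.algebraMap_apply]
      · intro i
        change algebraMap S S' (φ (MvPolynomial.X i)) =
          φ' (MvPolynomial.map (algebraMap R R') (MvPolynomial.X i))
        rw [MvPolynomial.map_X, hX]
    exact RingHom.congr_fun e p
  have t5 : IsScalarTower P S N := ⟨fun a b c => by
    rw [Algebra.smul_def, mul_smul]; rfl⟩
  have t6 : IsScalarTower P' S' N' := ⟨fun a b c => by
    rw [Algebra.smul_def, mul_smul]; rfl⟩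
  have t7 : IsScalarTower R P S' := IsScalarTower.of_algebraMap_eq fun r => by
    change _ = algebraMap S S' (algebraMap P S (algebraMap R P r))
    rw [← IsScalarTower.algebraMap_apply R P S, ← IsScalarTower.algebraMap_apply R S S']
  have t8 : IsScalarTower R P' S' := IsScalarTower.of_algebraMap_eq fun r => by
    rw [IsScalarTower.algebraMap_apply R R' P', ← IsScalarTower.algebraMap_apply R' P' S',
      ← IsScalarTower.algebraMap_apply R R' S']
  have p1 : Algebra.IsPushout R P R' P' := inferInstance
  have p2 : Algebra.IsPushout R S R' S' := Algebra.IsPushout.symm inferInstance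
  have p3 : Algebra.IsPushout P S P' S' := Algebra.IsPushout.comp_iff R P R' P' (T := S)
    (T' := S') |>.1 p2
  have p4 : Algebra.IsPushout P P' S S' := p3.symm
  have hs' : Function.Surjective φ' := by
    intro y
    induction y using p4.out.inductionOn with
    | zero => exact ⟨0, map_zero _⟩
    | tmul m =>
      obtain ⟨p, rfl⟩ := h1 m
      exact ⟨algebraMap P P' p, (IsScalarTower.algebraMap_apply P P' S' p).symm⟩
    | smul b m hm =>
      obtain ⟨x, rfl⟩ := hm
      exact ⟨b * x, by rw [map_mul]; rfl⟩
    | add a b ha hb =>
      obtain ⟨x, rfl⟩ := ha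
      obtain ⟨y, rfl⟩ := hb
      exact ⟨x + y, map_add _ _ _⟩
  have hN : Module.FinitePresentation P N := h3
  rw [rfp_iff (algebraMap R' S') MvPolynomial.C (C_finitePresentation R' n) φ' hs'
    (RingHom.ext hC)]
  exact finitePresentation_of_isPushout (P := P) (P' := P') (A := S) (B := S') g hg

end Poly

end K654.RelFP
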