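import Groth.Agent.Flatn.K654.RFPBC

/-!
# Relative finite presentation: pullback along finitely presented maps, locality, exact sequences
-/

set_option autoImplicit false
universe u

open scoped TensorProduct

namespace K654.RelFP

section Poly

attribute [local instance] MvPolynomial.algebraMvPolynomial

/-- Relative finite presentation is stable under pullback along finitely presented ring maps. -/
theorem rfp_pullback {R A B : Type u} [CommRing R] [CommRing A] [CommRing B] [Algebra A B]
    [Algebra.FinitePresentation A B] (σ : R →+* A) {M M' : Type u} [AddCommGroup M] [Module A M]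
    [AddCommGroup M'] [Module B M'] [Module A M'] [IsScalarTower A B M'] (g : M →ₗ[A] M')
    (hg : IsBaseChange B g) (h : RFP σ M) : RFP ((algebraMap A B).comp σ) M' := by
  obtain ⟨n, φ, h1, h2, h3⟩ := (rfp_def _ M).1 h
  obtain ⟨m, π, hπ, hker⟩ := (inferInstance : Algebra.FinitePresentation A B).out
  let P := MvPolynomial (Fin n) R
  let E := MvPolynomial (Fin m) P
  let C := MvPolynomial (Fin m) A
  let : Algebra P A := φ.toAlgebra
  let : Algebra C B := π.toRingHom.toAlgebra
  let : Module P M := Module.compHom M φ
  let : Module C M' := Module.compHom M' π.toRingHom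
  obtain ⟨N1, _, _, _, _, k, hk⟩ : ∃ (N1 : Type u) (_ : AddCommGroup N1) (_ : Module A N1)
      (_ : Module C N1) (_ : IsScalarTower A C N1) (k : M →ₗ[A] N1), IsBaseChange C k :=
    ⟨C ⊗[A] M, inferInstance, inferInstance, inferInstance, inferInstance,
      TensorProduct.mk A C M 1, TensorProduct.isBaseChange A M C⟩
  let : Module E N1 := Module.compHom _ (algebraMap E C)
  have t1 : IsScalarTower P A C := inferInstance
  have t2 : IsScalarTower P E C := IsScalarTower.of_algebraMap_eq fun p => by
    change MvPolynomial.C (φ p) = MvPolynomial.map φ (MvPolynomial.C p)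
    rw [MvPolynomial.map_C]
  have t3 : IsScalarTower A C B := IsScalarTower.of_algebraMap_eq fun a => (π.commutes a).symm
  have t4 : IsScalarTower C B M' := ⟨fun a b c => by
    rw [Algebra.smul_def, mul_smul]; rfl⟩
  have t5 : IsScalarTower A C M' := ⟨fun a b c => by
    rw [Algebra.smul_def, mul_smul]
    change π (algebraMap A C a) • (b • c) = _
    rw [π.commutes, algebraMap_smul]⟩
  have t6 : IsScalarTower P A M := ⟨fun a b c => by
    rw [Algebra.smul_def, mul_smul]; rfl⟩
  have t7 : IsScalarTower E C N1 := ⟨fun a b c => by
    rw [Algebra.smul_def, mul_smul]; rfl⟩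
  have hM : Module.FinitePresentation P M := h3
  have p1 : Algebra.IsPushout P E A C := inferInstance
  have hN1 : Module.FinitePresentation E N1 :=
    finitePresentation_of_isPushout (P := P) (P' := E) (A := A) (B := C) k hk
  have hEC : Function.Surjective (algebraMap E C) := MvPolynomial.map_surjective _ h1
  let φ'' : E →+* B := π.toRingHom.comp (algebraMap E C)
  let : Module E M' := Module.compHom M' φ''
  have t8 : IsScalarTower E C M' := ⟨fun a b c => by
    rw [Algebra.smul_def, mul_smul]; rfl⟩
  let f : N1 →ₗ[C] M' := hk.lift g
  have hfg : f.restrictScalars A ∘ₗ k = g := hk.lift_comp g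
  have hf : IsBaseChange B f := by
    refine IsBaseChange.of_comp hk ?_
    rw [hfg]
    exact hg
  have hM' : Module.FinitePresentation E M' :=
    finitePresentation_quotient (E := E) (C := C) (D := B) hEC hπ hker f hf
  rw [rfp_iff ((algebraMap A B).comp σ) ((MvPolynomial.C : P →+* E).comp MvPolynomial.C)
    (RingHom.FinitePresentation.comp (C_finitePresentation P m) (C_finitePresentation R n)) φ''
    (hπ.comp hEC) ?_]
  · exact hM'
  · ext r
    change π (MvPolynomial.map φ (MvPolynomial.C (MvPolynomial.C r))) = algebraMap A B (σ r)
    rw [MvPolynomial.map_C, ← h2]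
    exact π.commutes _

end Poly

/-- Relative finite presentation can be checked on a cover of `Spec S` by basic opens. -/
theorem rfp_of_span {R S : Type u} [CommRing R] [CommRing S] (σ : R →+* S) (hσ : σ.FiniteType)
    {N : Type u} [AddCommGroup N] [Module S N] (s : Set S) (hs : Ideal.span s = ⊤)
    (h : ∀ g ∈ s, ∃ (S' : Type u) (_ : CommRing S') (_ : Algebra S S')
      (_ : IsLocalization.Away g S') (N' : Type u) (_ : AddCommGroup N') (_ : Module S N')
      (_ : Module S' N') (_ : IsScalarTower S S' N') (l : N →ₗ[S] N')
      (_ : IsLocalizedModule (Submonoid.powers g) l), RFP ((algebraMap S S').comp σ) N') :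
    RFP σ N := by
  obtain ⟨n, φ, h1, h2⟩ := exists_surj σ hσ
  let P := MvPolynomial (Fin n) R
  let : Algebra P S := φ.toAlgebra
  let : Module P N := Module.compHom N φ
  have t1 : IsScalarTower P S N := ⟨fun a b c => by
    rw [Algebra.smul_def, mul_smul]; rfl⟩
  rw [rfp_iff σ MvPolynomial.C (C_finitePresentation R n) φ h1 h2]
  let T : Set P := {f | Module.FinitePresentation (Localization.Away f) (LocalizedModule.Away f N)}
  have hT1 : ∀ f, φ f = 0 → f ∈ T := by
    intro f hf
    have : Subsingleton (LocalizedModule.Away f N) := by
      rw [LocalizedModule.subsingleton_iff]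
      intro m
      refine ⟨f, ⟨1, pow_one f⟩, ?_⟩
      change φ f • m = 0
      rw [hf, zero_smul]
    exact Module.FinitePresentation.of_subsingleton _
  have hT2 : ∀ f, φ f ∈ s → f ∈ T := by
    intro f hf
    obtain ⟨S', _, _, _, N', _, _, _, _, l, _, hN'⟩ := h (φ f) hf
    let Pf := Localization.Away f
    let φf : Pf →+* S' := IsLocalization.Away.map Pf S' φ f
    have hφf : ∀ p, φf (algebraMap P Pf p) = algebraMap S S' (φ p) := fun p =>
      IsLocalization.map_eq _ p
    have hsf : Function.Surjective φf := by
      intro y
      obtain ⟨a, ⟨_, k, rfl⟩, rfl⟩ := IsLocalization.exists_mk'_eq (Submonoid.powers (φ f)) y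
      obtain ⟨b, rfl⟩ := h1 a
      refine ⟨IsLocalization.mk' Pf b (⟨f ^ k, k, rfl⟩ : Submonoid.powers f), ?_⟩
      refine (IsLocalization.map_mk' _ _ _).trans ?_
      congr 1
      ext
      simp
    have hfp : ((algebraMap P Pf).comp (MvPolynomial.C : R →+* P)).FinitePresentation := by
      refine RingHom.FinitePresentation.comp ?_ (C_finitePresentation R n)
      have : Algebra.FinitePresentation P Pf := IsLocalization.Away.finitePresentation f
      exact RingHom.finitePresentation_algebraMap.2 this
    rw [rfp_iff _ _ hfp φf hsf (by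
      ext r
      rw [← h2]
      exact hφf _)] at hN'
    let : Module Pf N' := Module.compHom N' φf
    let : Module P N' := Module.compHom N' (algebraMap P S)
    have t2 : IsScalarTower P S N' := ⟨fun a b c => by
      rw [Algebra.smul_def, mul_smul]; rfl⟩
    have t3 : IsScalarTower P Pf N' := by
      refine IsScalarTower.of_algebraMap_smul fun r x => ?_
      change φf (algebraMap P Pf r) • x = φ r • x
      rw [hφf, algebraMap_smul]
    have hN'' : Module.FinitePresentation Pf N' := hN'
    have hloc : IsLocalizedModule (Submonoid.powers f) (l.restrictScalars P) :=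
      IsLocalizedModule.restrictScalars_powers f l
    let e := IsLocalizedModule.iso (Submonoid.powers f) (l.restrictScalars P)
    let e' := e.extendScalarsOfIsLocalization (Submonoid.powers f) Pf
    exact Module.FinitePresentation.of_equiv e'.symm
  have hspan : Ideal.span T = ⊤ := by
    rw [Ideal.eq_top_iff_one]
    have h3 : (Ideal.span T).map φ = ⊤ := by
      rw [← top_le_iff, ← hs, Ideal.span_le]
      intro g hg
      obtain ⟨f, rfl⟩ := h1 g
      exact Ideal.mem_map_of_mem _ (Ideal.subset_span (hT2 f hg))
    have h4 : (1 : S) ∈ (Ideal.span T).map φ := by rw [h3]; trivial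
    obtain ⟨p, hp, hp1⟩ := (Ideal.mem_map_iff_of_surjective φ h1).1 h4
    have h5 : 1 - p ∈ Ideal.span T := Ideal.subset_span (hT1 _ (by rw [map_sub, map_one, hp1, sub_self]))
    have := Ideal.add_mem _ h5 hp
    rwa [sub_add_cancel] at this
  exact Module.FinitePresentation.of_localizationSpan T hspan fun g => g.2

end K654.RelFP
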